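import Cfsg.Agent.H342.L5.FixVec
import Cfsg.Agent.H241.L5.Tor

/-!
# Representatives in `GT` of the elements of `C_W(w8)` (S5923, A6, helper342)
-/

set_option autoImplicit false
set_option linter.unusedSectionVars false

namespace Cfsg.Agent.H342.L5

open CoxeterSystem Subgroup Cfsg Cfsg.Lie Cfsg.Lie.ChevalleyDatum
open Cfsg.Agent.ChevalleyStructure Cfsg.Agent.ChevalleyStructure.Elts Cfsg.Agent.ChevalleyStructure.CoxeterGeom
  Cfsg.Agent.ChevalleyStructure.CoxeterGeomTypes Cfsg.Agent.ChevalleyStructure.NPerm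
open Cfsg.Agent.Tits.Roots Cfsg.Agent.Tits.Core Cfsg.Agent.Nodes Cfsg.Agent.Nodes.SubComb Cfsg.Agent.Nodes.Reps
  Cfsg.Agent.Nodes.BNOf Cfsg.Agent.Nodes.RGDChev Cfsg.Agent.Nodes.Bruhat Cfsg.Agent.Nodes.Coroot
open Cfsg.Agent.KFacts.RgdField Cfsg.Agent.KFacts.RgdChevCoord Cfsg.Agent.BpExc.TorCent Cfsg.Agent.BpExc.TorChev
open Cfsg.Agent.GpExc.Field Cfsg.Agent.BpExc.Tow Cfsg.Agent.BpExc.TowChev Cfsg.Agent.BpExc.Fr
  Cfsg.Agent.BpExc.LangFr Cfsg.Agent.BpExc.FamField Cfsg.Agent.BpExc.FamInst Cfsg.Agent.H129.TorusChar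
  Cfsg.Agent.H795.LangT Cfsg.Agent.BpExc.FamExt Cfsg.Agent.BpExc.FamUntw Cfsg.Agent.H378.TorDual Cfsg.Agent.H378.TorChar
  Cfsg.Agent.H378.TorFin Cfsg.Agent.H378.RankOne Cfsg.Agent.H378.RootTor Cfsg.Agent.H865.EE Cfsg.Agent.H865.L5
  Cfsg.Agent.H241.L5

attribute [local irreducible] w8

section A
variable {k : Type} [Field k] [CharP k 3] [IsAlgClosed k] [PerfectRing k 3]

/-- the generators `n_i` are fixed by the Frobenius -/
theorem phi_nc3 (i : Fin 8) : phi chevE8 k 3 1 (nc tp8 k i) = nc tp8 k i := by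
  rw [← emb_nc tp8 (ZMod.castHom (dvd_refl 3) k) i]
  apply Subtype.ext
  apply Units.ext
  rw [phi_coe]
  ext a b
  rw [Matrix.map_apply]
  have h1 : ∀ g : ↥(chevE8.group (ZMod 3)), ∀ i j,
      ((((emb tp8.inList (ZMod.castHom (dvd_refl 3) k) g : ↥(chevE8.group k)) : GL chevE8.Idx k) :
      Matrix chevE8.Idx chevE8.Idx k) i j) = ZMod.castHom (dvd_refl 3) k ((g : GL chevE8.Idx (ZMod 3)) i j) :=
    fun g i j => by
      rw [coe_emb]
      rfl
  have h2 : ∀ c : ZMod 3, c ^ 3 = c := by decide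
  rw [h1, pow_one, ← map_pow, h2]

theorem phi_word (ω : List (Fin 8)) :
    phi chevE8 k 3 1 ((ω.map (nc tp8 k)).prod) = (ω.map (nc tp8 k)).prod := by
  induction ω with
  | nil => rw [List.map_nil, List.prod_nil, map_one]
  | cons i ω ih => rw [List.map_cons, List.prod_cons, map_mul, phi_nc3, ih]

/-- A6 : every element of `CW` is represented by an element of `GT k` -/
theorem exists_rp_GT (hk : LocFin k) {v : W8} (hv : v ∈ CW) :
    ∃ y ∈ GT k, Rp cs8 (nsysL tp8 cs8 hk 3) v y := by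
  obtain ⟨ω, rfl⟩ := cs8.wordProd_surjective v
  have hn := rp_word hk ω
  set n := (ω.map (nc tp8 k)).prod with hnd
  -- `sg n` represents `v` too
  have h1 : Rp cs8 (nsysL tp8 cs8 hk 3) (cs8.wordProd ω) (sg k n) := by
    have h2 := ((n0_rp hk).mul hn).mul (n0_rp hk).inv
    have e1 : w8⁻¹ * cs8.wordProd ω * w8⁻¹⁻¹ = cs8.wordProd ω := by
      have h3 := Subgroup.mem_centralizer_singleton_iff.1 hv
      rw [inv_inv, mul_assoc, h3, inv_mul_cancel_left]
    rw [e1] at h2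
    rw [sg_apply, hnd, phi_word]
    exact h2
  have h2 : sg k n * n⁻¹ ∈ TT chevE8 k := by
    have h3 := h1.mul hn.inv
    rw [mul_inv_cancel] at h3
    exact h3.mem_of_one
  obtain ⟨b, hb, hcb⟩ := lang_sg hk h2
  refine ⟨b⁻¹ * n, ?_, ?_⟩
  · show sg k (b⁻¹ * n) = b⁻¹ * n
    have h3 : sg k n = sg k b * b⁻¹ * n := by rw [← hcb, inv_mul_cancel_right]
    rw [map_mul, map_inv, h3]
    group
  · have h3 := (rp_of_mem (cs := cs8) (hN := nsysL tp8 cs8 hk 3) (inv_mem hb)).mul hn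
    rwa [one_mul] at h3

end A

end Cfsg.Agent.H342.L5
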